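import Cfsg.Agent.Lib.AltEightNine.Table.Model

/-!
# The automorphism of the table from the symmetry of the diagram, and word lengths in four generators
-/

set_option autoImplicit false
set_option maxRecDepth 100000

namespace Cfsg.Lib.AltEightNine

/-- The packed images. -/
def diagN : ℕ := 784495996975882102340785664756956145011491688131669050711936860178790596300232909558121945587729085084149596143062665658096380543533184975236623981323267053835542826666811615033378140065356216548130062936838809364124169686433763722458408654186106656726813406850487425187175685032435392213310534775100320121059203323243724397036111861198996189650475667977721797272689364192928767763647560090675256706285084114142402389284347568675830873434285994626505864221163776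

/-- The packed word lengths. -/
def depN : ℕ := 56750299918528343510485207851218129241402104736836473251182952130484631539970977864401145588958494723061322169969413760721895376123534710981118426574167336198601874264553955831796577934996061008088392422188385932956867384113252636233650239981373843442163341714502452998711324246650533006837429296146539382086893018380694104387761238314648033648358116393898511234654962903197133036156554279583244142351093213654555638662604396641231792374775040999559604918681856

/-- The automorphism exchanging the two end generators. -/
def bDiag (i : Fin 192) : Fin 192 := bIdx diagN i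

/-- The length of an element in the four generators. -/
def bDep (i : Fin 192) : ℕ := (depN >>> (8 * i.1)) &&& 255

theorem bDiag_hom : ∀ i j : Fin 192, bDiag (bMul i j) = bMul (bDiag i) (bDiag j) := by decide +kernel

theorem bDiag_facts : (∀ i j : Fin 192, bDiag i = bDiag j → i = j) ∧ bDiag bZ = bZ ∧ bDiag 60 = 132 ∧ bDiag 132 = 60 ∧
    bDiag 1 = 1 ∧ bDiag 5 = 5 ∧ bDiag 180 = 72 ∧ bDiag 72 = 180 := by decide +kernel

theorem bDiag_cls : (∀ i, bCls i = 2 → bCls (bDiag i) = 3) ∧ (∀ i, bCls i = 3 → bCls (bDiag i) = 2) ∧
    (∀ i, bCls i = 4 → bCls (bDiag i) = 4) ∧ (∀ i, bCls i = 5 → bCls (bDiag i) = 5) ∧
    (∀ i, bCls i = 6 → bCls (bDiag i) = 6) := by decide +kernel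

theorem bDep_step : ∀ i : Fin 192, i = 0 ∨ ∃ g ∈ [(60 : Fin 192), 1, 132, 5], bDep (bMul i g) < bDep i := by
  decide +kernel

end Cfsg.Lib.AltEightNine
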