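import Mathlib
import Cfsg.Agent.Lib.AltEightNine.Table.Data

/-!
# The group of order 192 of the alternating branch, as a table, and the centraliser setup
-/

set_option autoImplicit false
set_option maxRecDepth 100000

namespace Cfsg.Lib.AltEightNine

/-- A byte of a packed list as an index. -/
def bIdx (p : ℕ) (i : Fin 192) : Fin 192 := ⟨((p >>> (8 * i.1)) &&& 255) % 192, Nat.mod_lt _ (by norm_num)⟩

/-- The product of two indices. -/
def bMul (i j : Fin 192) : Fin 192 := bIdx (Table.row i) j

/-- The inverse of an index. -/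
def bInv (i : Fin 192) : Fin 192 := bIdx Table.invN i

/-- The central involution. -/
def bZ : Fin 192 := 6

/-- The conjugate of `i` by `h`. -/
def bConj (h i : Fin 192) : Fin 192 := bMul (bMul h i) (bInv h)

/-- The power of an index. -/
def bPow (i : Fin 192) : ℕ → Fin 192
  | 0 => 0
  | n + 1 => bMul i (bPow i n)

/-- The class code of an involution: `1` the central one, `2`, `3`, `4` the classes in the normal
extraspecial subgroup, `5`, `6` the classes outside; `0` for the other indices. -/
def bCls (i : Fin 192) : ℕ := (Table.clsN >>> (8 * i.1)) &&& 255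

/-- The automorphism permuting the three classes in the core cyclically. -/
def bCyc (i : Fin 192) : Fin 192 := bIdx Table.cycN i

/-- The automorphism exchanging two of these classes. -/
def bTra (i : Fin 192) : Fin 192 := bIdx Table.traN i

/-- The automorphism exchanging the two classes outside. -/
def bTwi (i : Fin 192) : Fin 192 := bIdx Table.twiN i

theorem bMul_inv : ∀ i : Fin 192, bMul i (bInv i) = 0 ∧ bMul (bInv i) i = 0 ∧ bMul 0 i = i ∧ bMul i 0 = i := by
  decide +kernel

theorem bZ_facts : bMul bZ bZ = 0 ∧ (∀ i, bMul bZ i = bMul i bZ) ∧ bZ ≠ 0 ∧ bCls bZ = 1 := by decide +kernel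

universe u

/-- An involution whose centraliser is enumerated as the table group. -/
structure TabSetup (G : Type u) [Group G] where
  /-- the involution -/
  s : G
  /-- the elements of the centraliser -/
  f : Fin 192 → G
  inj : Function.Injective f
  fmul : ∀ i j, f (bMul i j) = f i * f j
  f_z : f bZ = s
  mem_iff : ∀ g : G, g * s = s * g ↔ ∃ i, f i = g

namespace TabSetup

variable {G : Type u} [Group G] (S : TabSetup G)

theorem fone : S.f 0 = 1 := by
  have h := S.fmul 0 0
  rw [(bMul_inv 0).2.2.1] at h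
  exact left_eq_mul.1 h

theorem finv (i : Fin 192) : S.f (bInv i) = (S.f i)⁻¹ :=
  eq_inv_of_mul_eq_one_left (by rw [← S.fmul, (bMul_inv i).2.1, S.fone])

theorem fconj (h i : Fin 192) : S.f (bConj h i) = S.f h * S.f i * (S.f h)⁻¹ := by
  rw [bConj, S.fmul, S.fmul, S.finv]

theorem fpow (i : Fin 192) : ∀ n, S.f (bPow i n) = S.f i ^ n := by
  intro n
  induction n with
  | zero => simp [bPow, S.fone]
  | succ n ih => rw [bPow, S.fmul, ih, pow_succ']

theorem comm_s (i : Fin 192) : S.f i * S.s = S.s * S.f i := (S.mem_iff _).2 ⟨i, rfl⟩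

theorem s_sq : S.s * S.s = 1 := by rw [← S.f_z, ← S.fmul, bZ_facts.1, S.fone]

theorem s_ne : S.s ≠ 1 := fun h => bZ_facts.2.2.1 (S.inj (by rw [S.f_z, S.fone, h]))

/-- Composition with an automorphism of the table. -/
def precomp (α : Fin 192 → Fin 192) (hi : Function.Injective α)
    (hm : ∀ i j, α (bMul i j) = bMul (α i) (α j)) (hz : α bZ = bZ) : TabSetup G where
  s := S.s
  f := S.f ∘ α
  inj := S.inj.comp hi
  fmul i j := by simp only [Function.comp_apply, hm, S.fmul]
  f_z := by simp only [Function.comp_apply, hz, S.f_z]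
  mem_iff g := (S.mem_iff g).trans
    ⟨fun ⟨i, hi'⟩ => by
        obtain ⟨j, rfl⟩ := (Finite.injective_iff_surjective.1 hi) i
        exact ⟨j, hi'⟩,
      fun ⟨i, hi'⟩ => ⟨α i, hi'⟩⟩

end TabSetup

theorem bAut_hom : (∀ i j : Fin 192, bCyc (bMul i j) = bMul (bCyc i) (bCyc j)) ∧
    (∀ i j : Fin 192, bTra (bMul i j) = bMul (bTra i) (bTra j)) ∧
    ∀ i j : Fin 192, bTwi (bMul i j) = bMul (bTwi i) (bTwi j) := by
  refine ⟨?_, ?_, ?_⟩ <;> decide +kernel

theorem bAut_inj : (∀ i j : Fin 192, bCyc i = bCyc j → i = j) ∧ (∀ i j : Fin 192, bTra i = bTra j → i = j) ∧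
    (∀ i j : Fin 192, bTwi i = bTwi j → i = j) ∧ bCyc bZ = bZ ∧ bTra bZ = bZ ∧ bTwi bZ = bZ := by
  refine ⟨?_, ?_, ?_, ?_, ?_, ?_⟩ <;> decide +kernel

end Cfsg.Lib.AltEightNine
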